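import Cfsg.Agent.H873.Tits.End

/-!
# S3414, E-NUM: the numerical part of the end step (helper63)

`st_numE : StNumE`.
-/

set_option autoImplicit false

namespace Cfsg.Agent.H63.NumE

open Cfsg.Agent.H873.Tits

/-! ### the reduction -/

/-- `ch` written out -/
def chN (n s t : ℕ) : ℕ :=
  (1 + s) * (1 + t) *
    (if n = 4 then 1 + s * t else if n = 6 then 1 + s * t + (s * t) ^ 2 else 1 + s * t + (s * t) ^ 2 + (s * t) ^ 3)

theorem ch_eq {n : ℕ} (hn : n = 4 ∨ n = 6 ∨ n = 8) (s t : ℕ) : ch n s t = chN n s t := by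
  rcases hn with rfl | rfl | rfl <;> simp [ch, chN, Finset.sum_range_succ]

theorem chN_pos (n s t : ℕ) : 0 < chN n s t := by
  unfold chN
  split_ifs <;> positivity

/-- `ch ≤ 4 (st)^(n/2)` -/
theorem chN_le {n s t : ℕ} (hn : n = 4 ∨ n = 6 ∨ n = 8) (hs : 2 ≤ s) (ht : 2 ≤ t) :
    chN n s t ≤ 4 * (s * t) ^ (n / 2) := by
  have h1 : 2 * (1 + s) ≤ 3 * s := by omega
  have h2 : 2 * (1 + t) ≤ 3 * t := by omega
  have h3 : 4 ≤ s * t := by nlinarith
  have h4 : 4 * ((1 + s) * (1 + t)) ≤ 9 * (s * t) := by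
    calc 4 * ((1 + s) * (1 + t)) = (2 * (1 + s)) * (2 * (1 + t)) := by ring
      _ ≤ (3 * s) * (3 * t) := Nat.mul_le_mul h1 h2
      _ = 9 * (s * t) := by ring
  unfold chN
  generalize (1 + s) * (1 + t) = y at h4 ⊢
  generalize s * t = x at h3 h4 ⊢
  rcases hn with rfl | rfl | rfl
  · have h5 : 4 * (1 + x) ≤ 5 * x := by omega
    have h6 := Nat.mul_le_mul h4 h5
    simp only [if_true]
    show y * (1 + x) ≤ 4 * x ^ 2
    nlinarith
  · have h5 : 16 * (1 + x + x ^ 2) ≤ 21 * x ^ 2 := by nlinarith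
    have h6 := Nat.mul_le_mul h4 h5
    simp only [show (6 : ℕ) ≠ 4 by norm_num, if_false, if_true]
    show y * (1 + x + x ^ 2) ≤ 4 * x ^ 3
    have h7 : x ^ 3 = x * x ^ 2 := by ring
    nlinarith [Nat.zero_le (x ^ 3)]
  · have h5 : 64 * (1 + x + x ^ 2 + x ^ 3) ≤ 85 * x ^ 3 := by
      have h8 : 16 + 16 * x ≤ 5 * x ^ 2 := by nlinarith
      have h9 : 4 * (x ^ 2) ≤ x ^ 3 := by
        have : x ^ 3 = x * x ^ 2 := by ring
        rw [this]
        exact Nat.mul_le_mul_right _ h3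
      omega
    have h6 := Nat.mul_le_mul h4 h5
    simp only [show (8 : ℕ) ≠ 4 by norm_num, show (8 : ℕ) ≠ 6 by norm_num, if_false]
    show y * (1 + x + x ^ 2 + x ^ 3) ≤ 4 * x ^ 4
    have h7 : 9 * x * (85 * x ^ 3) = 765 * x ^ 4 := by ring
    have h10 : 4 * y * (64 * (1 + x + x ^ 2 + x ^ 3)) = 256 * (y * (1 + x + x ^ 2 + x ^ 3)) := by ring
    rw [h7, h10] at h6
    omega

theorem red {n p a b h M u : ℕ} (hp : p.Prime) (hn : n = 4 ∨ n = 6 ∨ n = 8) (hh : h ≠ 0) (hM : M ≠ 0)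
    (hdvd : M ∣ ch n (p ^ a) (p ^ b) * (p ^ a * p ^ b) ^ (n / 2) * h)
    (hu : u * p ^ M.factorization p = (p ^ a * p ^ b) ^ (n / 2) * p ^ h.factorization p)
    (key : chN n (p ^ a) (p ^ b) * (h / p ^ h.factorization p) * u ^ 2 < (p ^ a * p ^ b) ^ n) :
    M < p ^ (3 * M.factorization p) := by
  rw [ch_eq hn] at hdvd
  set C := chN n (p ^ a) (p ^ b) with hC
  have hC0 : C ≠ 0 := (chN_pos _ _ _).ne'
  have h1 : M / p ^ M.factorization p ∣
      (C * (p ^ a * p ^ b) ^ (n / 2) * h) / p ^ (C * (p ^ a * p ^ b) ^ (n / 2) * h).factorization p :=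
    Nat.ordCompl_dvd_ordCompl_of_dvd hdvd p
  rw [Nat.ordCompl_mul, Nat.ordCompl_mul] at h1
  have h2 : (p ^ a * p ^ b) ^ (n / 2) / p ^ ((p ^ a * p ^ b) ^ (n / 2)).factorization p = 1 := by
    rw [← pow_add, ← pow_mul]
    exact Nat.ordCompl_self_pow hp
  rw [h2, mul_one] at h1
  have hP0 : 0 < p ^ M.factorization p := pow_pos hp.pos _
  have h3 : M / p ^ M.factorization p ≤ C * (h / p ^ h.factorization p) := by
    refine (Nat.le_of_dvd ?_ h1).trans (Nat.mul_le_mul_right _ (Nat.div_le_self _ _))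
    exact Nat.mul_pos (Nat.ordCompl_pos p hC0) (Nat.ordCompl_pos p hh)
  have h4 : p ^ M.factorization p * (M / p ^ M.factorization p) = M := Nat.ordProj_mul_ordCompl_eq_self M p
  set P := p ^ M.factorization p with hP
  set h' := h / p ^ h.factorization p with hh'
  have hu0 : 0 < u := by
    rcases Nat.eq_zero_or_pos u with h0 | h0
    · exfalso
      rw [h0, zero_mul] at hu
      have : 0 < (p ^ a * p ^ b) ^ (n / 2) * p ^ h.factorization p := by
        have := hp.pos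
        positivity
      omega
    · exact h0
  have h5 : (p ^ a * p ^ b) ^ n ≤ u ^ 2 * P ^ 2 := by
    have hn2 : n / 2 * 2 = n := by rcases hn with rfl | rfl | rfl <;> rfl
    calc (p ^ a * p ^ b) ^ n = ((p ^ a * p ^ b) ^ (n / 2)) ^ 2 := by rw [← pow_mul, hn2]
      _ ≤ ((p ^ a * p ^ b) ^ (n / 2)) ^ 2 * (p ^ h.factorization p) ^ 2 :=
        Nat.le_mul_of_pos_right _ (pow_pos (pow_pos hp.pos _) _)
      _ = u ^ 2 * P ^ 2 := by rw [← mul_pow, ← hu, mul_pow]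
  have h6 : C * h' < P ^ 2 := by
    have h7 : (C * h') * u ^ 2 < P ^ 2 * u ^ 2 := by
      rw [mul_comm (P ^ 2)]
      exact lt_of_lt_of_le key h5
    exact lt_of_mul_lt_mul_right h7 (Nat.zero_le _)
  rw [mul_comm 3, pow_mul, ← hP]
  calc M = P * (M / P) := h4.symm
    _ ≤ P * (C * h') := Nat.mul_le_mul_left _ h3
    _ < P * P ^ 2 := Nat.mul_lt_mul_of_pos_left h6 hP0
    _ = P ^ 3 := by ring

/-- `u` is a power of `p` -/
theorem u_pow {n p a b h M u : ℕ} (hp : p.Prime)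
    (hu : u * p ^ M.factorization p = (p ^ a * p ^ b) ^ (n / 2) * p ^ h.factorization p) : ∃ c, u = p ^ c := by
  have h1 : u ∣ p ^ ((a + b) * (n / 2) + h.factorization p) := by
    refine ⟨p ^ M.factorization p, ?_⟩
    rw [hu, ← pow_add, ← pow_mul, ← pow_add]
  obtain ⟨c, -, hc⟩ := (Nat.dvd_prime_pow hp).1 h1
  exact ⟨c, hc⟩

/-! ### the types -/

theorem tbd_of_spec {p k T : ℕ} (h : Spec p k T) : TBd p k T := by
  rcases h with ⟨rfl, -, rfl⟩ | ⟨rfl, rfl, h⟩ | ⟨rfl, -, h⟩ | ⟨rfl, rfl, h⟩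
  · exact Or.inl (one_dvd _)
  · exact Or.inr ⟨1, rfl, h⟩
  · left
    rwa [pow_one, mul_one]
  · left
    exact h.trans (by decide)

/-- the bounds of `TBd` as a list -/
def yl (p b : ℕ) : List ℕ :=
  (p ^ b - 1) * b :: (if b % 3 = 0 then [(p ^ (2 * (b / 3)) - 1) * (2 * (b / 3))] else [])

theorem tbd_list {p b T : ℕ} (h : TBd p b T) : ∃ Y ∈ yl p b, T ∣ Y := by
  rcases h with h | ⟨f, rfl, h⟩
  · exact ⟨_, List.mem_cons_self, h⟩
  · refine ⟨(p ^ (2 * f) - 1) * (2 * f), ?_, h⟩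
    unfold yl
    rw [if_pos (by omega), show 3 * f / 3 = f by omega]
    exact List.mem_cons_of_mem _ (List.mem_singleton.2 rfl)

theorem yl_pos {p b Y : ℕ} (hp : 2 ≤ p) (hb : 1 ≤ b) (hY : Y ∈ yl p b) : 0 < Y := by
  unfold yl at hY
  rw [List.mem_cons] at hY
  rcases hY with rfl | hY
  · have : 1 < p ^ b := Nat.one_lt_pow (by omega) (by omega)
    exact Nat.mul_pos (by omega) hb
  · split_ifs at hY with h3
    · rw [List.mem_singleton] at hY
      rw [hY]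
      have h4 : 1 ≤ b / 3 := by omega
      have : 1 < p ^ (2 * (b / 3)) := Nat.one_lt_pow (by omega) (by omega)
      exact Nat.mul_pos (by omega) (by omega)
    · exact absurd hY (List.not_mem_nil)

theorem yl_le {p b Y : ℕ} (hp : 1 ≤ p) (hY : Y ∈ yl p b) : Y ≤ b * p ^ b := by
  unfold yl at hY
  rw [List.mem_cons] at hY
  rcases hY with rfl | hY
  · rw [mul_comm]
    exact Nat.mul_le_mul_left _ (Nat.sub_le _ _)
  · split_ifs at hY with h3
    · rw [List.mem_singleton] at hY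
      rw [hY, mul_comm]
      exact Nat.mul_le_mul (by omega) ((Nat.sub_le _ _).trans (Nat.pow_le_pow_right hp (by omega)))
    · exact absurd hY (List.not_mem_nil)

/-! ### the finite check -/

/-- the `p'`-part with fuel -/
def oc (p : ℕ) : ℕ → ℕ → ℕ
  | 0, m => m
  | k + 1, m => if m % p = 0 then oc p k (m / p) else m

theorem dvd_oc {p d : ℕ} (hd : Nat.Coprime d p) : ∀ k m : ℕ, d ∣ m → d ∣ oc p k m
  | 0, _, h => h
  | k + 1, m, h => by
    unfold oc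
    split_ifs with h1
    · have h2 : p * (m / p) = m := Nat.mul_div_cancel' (Nat.dvd_of_mod_eq_zero h1)
      exact dvd_oc hd k _ (hd.dvd_of_dvd_mul_left (h2.symm ▸ h))
    · exact h

theorem oc_pos {p : ℕ} (hp : 0 < p) : ∀ k m : ℕ, 0 < m → 0 < oc p k m
  | 0, _, h => h
  | k + 1, m, h => by
    unfold oc
    split_ifs with h1
    · exact oc_pos hp k _ (Nat.div_pos (Nat.le_of_dvd h (Nat.dvd_of_mod_eq_zero h1)) hp)
    · exact h

/-- membership in the list of exceptions -/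
def inS (n p a b H : ℕ) : Bool :=
  smallList.any fun x => x.1 == n && x.2.2.2.1 == p && x.2.2.2.2 % H == 0 &&
    ((x.2.1 == p ^ a && x.2.2.1 == p ^ b) || (x.2.1 == p ^ b && x.2.2.1 == p ^ a))

def good (n p a b H c : ℕ) : Bool :=
  inS n p a b H || decide (chN n (p ^ a) (p ^ b) ^ 3 < 2 ^ (p ^ c) * (1 + p ^ max a b) ^ 3) ||
    decide (chN n (p ^ a) (p ^ b) * oc p 30 H * (p ^ c) ^ 2 < (p ^ a * p ^ b) ^ n)

def conds (n p a b : ℕ) : Bool :=
  (n == 6 || (decide (p ^ a ≤ (p ^ b) ^ 2) && decide (p ^ b ≤ (p ^ a) ^ 2))) &&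
  (!(n == 4) || (2 * p ^ a * p ^ b * (1 + p ^ a) * (1 + p ^ b)) % (p ^ a + p ^ b) == 0) &&
  (!(n == 6) || (a + b) % 2 == 0) && (!(n == 8) || (p == 2 && (a + b) % 2 == 1))

def chk (p : ℕ) (L : List (ℕ × ℕ)) : Bool :=
  L.all fun x => (List.range (3 * x.1 + 1)).all fun b => [4, 6, 8].all fun n => b == 0 || !conds n p x.1 b ||
    (yl p b).all fun Y => (List.range 10).all fun c => good n p x.1 b (x.2 * Y) c

theorem chk_two : chk 2 [(1, 1), (2, 1), (3, 6), (4, 1), (8, 1)] = true := by decide +kernel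

theorem chk_three : chk 3 [(1, 2), (3, 2)] = true := by decide +kernel

/-- the conclusion of `StNumE` -/
def Concl (n p a b h M : ℕ) : Prop :=
  M < p ^ (3 * M.factorization p) ∨
    ∃ x ∈ smallList, x.1 = n ∧ x.2.2.2.1 = p ∧ h ∣ x.2.2.2.2 ∧
      ((x.2.1 = p ^ a ∧ x.2.2.1 = p ^ b) ∨ (x.2.1 = p ^ b ∧ x.2.2.1 = p ^ a))

theorem concl_of_inS {n p a b H h M : ℕ} (hS : inS n p a b H = true) (hh : h ∣ H) : Concl n p a b h M := by
  unfold inS at hS
  rw [List.any_eq_true] at hS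
  obtain ⟨x, hx, h1⟩ := hS
  simp only [Bool.and_eq_true, Bool.or_eq_true, beq_iff_eq] at h1
  obtain ⟨⟨⟨h2, h3⟩, h4⟩, h5⟩ := h1
  exact Or.inr ⟨x, hx, h2, h3, hh.trans (Nat.dvd_of_mod_eq_zero h4), h5⟩

/-- the bound for `u` -/
theorem u_le {n p a b u : ℕ} (hp2 : 2 ≤ p) (hp4 : p ≤ 4) (hn : n = 4 ∨ n = 6 ∨ n = 8) (ha : 1 ≤ a) (hb : 1 ≤ b)
    (h1 : 2 ^ u * (1 + p ^ a) ^ 3 ≤ ch n (p ^ a) (p ^ b) ^ 3) : u ≤ 6 + 6 * ((a + b) * (n / 2)) := by
  rw [ch_eq hn] at h1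
  have hpa : 2 ≤ p ^ a := hp2.trans (Nat.le_self_pow (by omega) p)
  have hpb : 2 ≤ p ^ b := hp2.trans (Nat.le_self_pow (by omega) p)
  have h2 : chN n (p ^ a) (p ^ b) ≤ 2 ^ (2 + 2 * ((a + b) * (n / 2))) := by
    refine (chN_le hn hpa hpb).trans ?_
    rw [← pow_add, ← pow_mul, pow_add 2 2, pow_mul 2 2]
    exact Nat.mul_le_mul (by norm_num) (Nat.pow_le_pow_left hp4 _)
  have h3 : 2 ^ u ≤ 2 ^ (6 + 6 * ((a + b) * (n / 2))) := by
    calc 2 ^ u ≤ 2 ^ u * (1 + p ^ a) ^ 3 := Nat.le_mul_of_pos_right _ (by positivity)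
      _ ≤ _ := h1
      _ ≤ (2 ^ (2 + 2 * ((a + b) * (n / 2)))) ^ 3 := Nat.pow_le_pow_left h2 3
      _ = 2 ^ (6 + 6 * ((a + b) * (n / 2))) := by rw [← pow_mul]; congr 1; ring
  exact (Nat.pow_le_pow_iff_right (by norm_num)).1 h3

theorem fin_case {n p a b h Tx Ty X M u : ℕ} {L : List (ℕ × ℕ)} (hp : p.Prime) (hp4 : p ≤ 4) (hL : chk p L = true)
    (haX : (a, X) ∈ L) (hX0 : 0 < X) (ha8 : a ≤ 8) (hn : n = 4 ∨ n = 6 ∨ n = 8) (ha : 1 ≤ a) (hb : 1 ≤ b)
    (h48 : (n = 4 ∨ n = 8) → p ^ a ≤ (p ^ b) ^ 2 ∧ p ^ b ≤ (p ^ a) ^ 2)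
    (h6 : n = 6 → p ^ a ≤ (p ^ b) ^ 3 ∧ p ^ b ≤ (p ^ a) ^ 3)
    (h4 : n = 4 → (p ^ a + p ^ b) ∣ 2 * p ^ a * p ^ b * (1 + p ^ a) * (1 + p ^ b))
    (h6e : n = 6 → (a + b) % 2 = 0) (h8e : n = 8 → p = 2 ∧ (a + b) % 2 = 1)
    (hTx : Tx ∣ X) (hTy : TBd p b Ty) (hh : h ∣ Tx * Ty) (hTx0 : 0 < Tx) (hTy0 : 0 < Ty) (hM0 : 0 < M)
    (hu1 : 2 ^ u * (1 + p ^ a) ^ 3 ≤ ch n (p ^ a) (p ^ b) ^ 3) (hu2 : 2 ^ u * (1 + p ^ b) ^ 3 ≤ ch n (p ^ a) (p ^ b) ^ 3)
    (hdvd : M ∣ ch n (p ^ a) (p ^ b) * (p ^ a * p ^ b) ^ (n / 2) * h)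
    (hu : u * p ^ M.factorization p = (p ^ a * p ^ b) ^ (n / 2) * p ^ h.factorization p) :
    Concl n p a b h M := by
  have hp2 := hp.two_le
  obtain ⟨Y, hY, hTY⟩ := tbd_list hTy
  have hY0 := yl_pos hp2 hb hY
  have hh0 : 0 < h := Nat.pos_of_dvd_of_pos hh (Nat.mul_pos hTx0 hTy0)
  have hhXY : h ∣ X * Y := hh.trans (Nat.mul_dvd_mul hTx hTY)
  have hb3 : b ≤ 3 * a := by
    rcases hn with rfl | rfl | rfl
    · have := (h48 (Or.inl rfl)).2
      rw [← pow_mul] at this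
      have := (Nat.pow_le_pow_iff_right hp.one_lt).1 this
      omega
    · have := (h6 rfl).2
      rw [← pow_mul] at this
      have := (Nat.pow_le_pow_iff_right hp.one_lt).1 this
      omega
    · have := (h48 (Or.inr rfl)).2
      rw [← pow_mul] at this
      have := (Nat.pow_le_pow_iff_right hp.one_lt).1 this
      omega
  obtain ⟨c, rfl⟩ := u_pow hp hu
  have hc : c < 10 := by
    have h1 := u_le hp2 hp4 hn ha hb hu1
    by_contra hc
    have h2 : 2 ^ 10 ≤ p ^ c := (Nat.pow_le_pow_left hp2 10).trans (Nat.pow_le_pow_right hp.pos (by omega))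
    have h3 : (a + b) * (n / 2) ≤ 32 * 4 := Nat.mul_le_mul (by omega) (by rcases hn with rfl | rfl | rfl <;> norm_num)
    norm_num at h2
    omega
  have hcond : conds n p a b = true := by
    unfold conds
    simp only [Bool.and_eq_true, Bool.or_eq_true, beq_iff_eq, decide_eq_true_eq, Bool.not_eq_true', beq_eq_false_iff_ne]
    refine ⟨⟨⟨?_, ?_⟩, ?_⟩, ?_⟩
    · rcases hn with rfl | rfl | rfl
      · exact Or.inr (h48 (Or.inl rfl))
      · exact Or.inl rfl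
      · exact Or.inr (h48 (Or.inr rfl))
    · by_cases h : n = 4
      · exact Or.inr (Nat.mod_eq_zero_of_dvd (h4 h))
      · exact Or.inl h
    · by_cases h : n = 6
      · exact Or.inr (h6e h)
      · exact Or.inl h
    · by_cases h : n = 8
      · exact Or.inr (h8e h)
      · exact Or.inl h
  -- the check
  unfold chk at hL
  rw [List.all_eq_true] at hL
  have h1 := hL _ haX
  rw [List.all_eq_true] at h1
  have h2 := h1 b (List.mem_range.2 (by show b < 3 * a + 1; omega))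
  rw [List.all_eq_true] at h2
  have h3 := h2 n (by
    rcases hn with rfl | rfl | rfl <;> simp)
  simp only [Bool.or_eq_true, beq_iff_eq, Bool.not_eq_true'] at h3
  rcases h3 with (h3 | h3) | h3
  · omega
  · rw [hcond] at h3
    exact absurd h3 (by decide)
  · rw [List.all_eq_true] at h3
    have h5 := h3 Y hY
    rw [List.all_eq_true] at h5
    have h7 := h5 c (List.mem_range.2 hc)
    unfold good at h7
    simp only [Bool.or_eq_true, decide_eq_true_eq] at h7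
    rcases h7 with (h7 | h7) | h7
    · exact concl_of_inS h7 hhXY
    · exfalso
      rw [ch_eq hn] at hu1 hu2
      rcases le_total a b with hab | hab
      · rw [max_eq_right hab] at h7
        omega
      · rw [max_eq_left hab] at h7
        omega
    · left
      refine red hp hn hh0.ne' hM0.ne' hdvd hu (lt_of_le_of_lt ?_ h7)
      refine Nat.mul_le_mul_right _ (Nat.mul_le_mul_left _ ?_)
      refine Nat.le_of_dvd (oc_pos hp.pos _ _ (Nat.mul_pos hX0 hY0)) (dvd_oc ?_ _ _ ?_)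
      · exact (Nat.coprime_ordCompl hp hh0.ne').symm
      · exact (Nat.ordCompl_dvd h p).trans hhXY

end Cfsg.Agent.H63.NumE
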