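import Cfsg.Agent.H63.Tits.NumE

/-!
# S3414, E-NUM: the infinite families and the statement (helper63)
-/

set_option autoImplicit false

namespace Cfsg.Agent.H63.NumE

open Cfsg.Agent.H873.Tits

/-! ### `p = 2`, large `a` -/

theorem cube_le (b : ℕ) (hb : 1 ≤ b) : b * (b + 1) ^ 2 ≤ 7 * 2 ^ b := by
  induction b, hb using Nat.le_induction with
  | base => norm_num
  | succ b hb ih =>
    rcases Nat.lt_or_ge b 4 with h4 | h4
    · interval_cases b <;> norm_num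
    · have h1 : (b + 1) * (b + 2) ^ 2 ≤ 2 * (b * (b + 1) ^ 2) := by nlinarith [sq_nonneg b]
      calc (b + 1) * (b + 1 + 1) ^ 2 = (b + 1) * (b + 2) ^ 2 := by ring
        _ ≤ 2 * (b * (b + 1) ^ 2) := h1
        _ ≤ 2 * (7 * 2 ^ b) := Nat.mul_le_mul_left _ ih
        _ = 7 * 2 ^ (b + 1) := by ring

theorem sq_lt (a : ℕ) (ha : 9 ≤ a) : 1008 * (a + 1) ^ 2 < 4 ^ a := by
  induction a, ha using Nat.le_induction with
  | base => norm_num
  | succ a ha ih =>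
    have h1 : (a + 2) ^ 2 ≤ 4 * (a + 1) ^ 2 := by nlinarith
    calc 1008 * (a + 1 + 1) ^ 2 = 1008 * (a + 2) ^ 2 := by ring
      _ ≤ 1008 * (4 * (a + 1) ^ 2) := Nat.mul_le_mul_left _ h1
      _ = 4 * (1008 * (a + 1) ^ 2) := by ring
      _ < 4 * 4 ^ a := Nat.mul_lt_mul_of_pos_left ih (by norm_num)
      _ = 4 ^ (a + 1) := by ring

theorem base_ineq {a b : ℕ} (ha : 9 ≤ a) (hb : 1 ≤ b) : 144 * b * (a + b + 1) ^ 2 < 2 ^ (2 * a + b) := by
  have h1 : a + b + 1 ≤ (a + 1) * (b + 1) := by nlinarith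
  have h2 : (a + b + 1) ^ 2 ≤ ((a + 1) * (b + 1)) ^ 2 := Nat.pow_le_pow_left h1 2
  calc 144 * b * (a + b + 1) ^ 2 ≤ 144 * b * ((a + 1) * (b + 1)) ^ 2 := Nat.mul_le_mul_left _ h2
    _ = 144 * (a + 1) ^ 2 * (b * (b + 1) ^ 2) := by ring
    _ ≤ 144 * (a + 1) ^ 2 * (7 * 2 ^ b) := Nat.mul_le_mul_left _ (cube_le b hb)
    _ = (1008 * (a + 1) ^ 2) * 2 ^ b := by ring
    _ < 4 ^ a * 2 ^ b := Nat.mul_lt_mul_of_pos_right (sq_lt a ha) (by positivity)
    _ = 2 ^ (2 * a + b) := by rw [pow_add, pow_mul]; norm_num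

/-- `36 b 2^b (E + 2)^2 < 2^E`, `E = (a + b) n / 2` -/
theorem large_ineq {n a b : ℕ} (hn : n = 4 ∨ n = 6 ∨ n = 8) (ha : 9 ≤ a) (hb : 1 ≤ b) :
    36 * (b * 2 ^ b) * ((a + b) * (n / 2) + 2) ^ 2 < 2 ^ ((a + b) * (n / 2)) := by
  have h0 := base_ineq ha hb
  have hb0 : 0 < 2 ^ b := by positivity
  have h1 : 2 ^ b * (144 * b * (a + b + 1) ^ 2) < 2 ^ (2 * (a + b)) := by
    calc 2 ^ b * (144 * b * (a + b + 1) ^ 2) < 2 ^ b * 2 ^ (2 * a + b) := Nat.mul_lt_mul_of_pos_left h0 hb0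
      _ = 2 ^ (2 * (a + b)) := by rw [← pow_add]; congr 1; ring
  have h4 : 4 ≤ 2 ^ (a + b) := by
    calc 4 = 2 ^ 2 := rfl
      _ ≤ 2 ^ (a + b) := Nat.pow_le_pow_right (by norm_num) (by omega)
  rcases hn with rfl | rfl | rfl
  · have e : (a + b) * (4 / 2) = 2 * (a + b) := by norm_num; ring
    rw [e]
    calc 36 * (b * 2 ^ b) * (2 * (a + b) + 2) ^ 2 = 2 ^ b * (144 * b * (a + b + 1) ^ 2) := by ring
      _ < 2 ^ (2 * (a + b)) := h1
  · have e : (a + b) * (6 / 2) = 3 * (a + b) := by norm_num; ring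
    rw [e]
    have h2 : (3 * (a + b) + 2) ^ 2 ≤ 16 * (a + b + 1) ^ 2 := by nlinarith
    calc 36 * (b * 2 ^ b) * (3 * (a + b) + 2) ^ 2 ≤ 36 * (b * 2 ^ b) * (16 * (a + b + 1) ^ 2) :=
        Nat.mul_le_mul_left _ h2
      _ = 4 * (2 ^ b * (144 * b * (a + b + 1) ^ 2)) := by ring
      _ < 4 * 2 ^ (2 * (a + b)) := Nat.mul_lt_mul_of_pos_left h1 (by norm_num)
      _ ≤ 2 ^ (a + b) * 2 ^ (2 * (a + b)) := Nat.mul_le_mul_right _ h4
      _ = 2 ^ (3 * (a + b)) := by rw [← pow_add]; congr 1; ring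
  · have e : (a + b) * (8 / 2) = 4 * (a + b) := by norm_num; ring
    rw [e]
    have h2 : (4 * (a + b) + 2) ^ 2 ≤ 16 * (a + b + 1) ^ 2 := by nlinarith
    calc 36 * (b * 2 ^ b) * (4 * (a + b) + 2) ^ 2 ≤ 36 * (b * 2 ^ b) * (16 * (a + b + 1) ^ 2) :=
        Nat.mul_le_mul_left _ h2
      _ = 4 * (2 ^ b * (144 * b * (a + b + 1) ^ 2)) := by ring
      _ < 4 * 2 ^ (2 * (a + b)) := Nat.mul_lt_mul_of_pos_left h1 (by norm_num)
      _ ≤ 2 ^ (a + b) * 2 ^ (2 * (a + b)) := Nat.mul_le_mul_right _ h4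
      _ = 2 ^ (3 * (a + b)) := by rw [← pow_add]; congr 1; ring
      _ ≤ 2 ^ (4 * (a + b)) := Nat.pow_le_pow_right (by norm_num) (by omega)

theorem large_case {n a b h Ty M u : ℕ} (hn : n = 4 ∨ n = 6 ∨ n = 8) (ha : 9 ≤ a) (hb : 1 ≤ b)
    (hTy : TBd 2 b Ty) (hh : h ∣ Ty) (hTy0 : 0 < Ty) (hM0 : 0 < M)
    (hu1 : 2 ^ u * (1 + 2 ^ a) ^ 3 ≤ ch n (2 ^ a) (2 ^ b) ^ 3)
    (hdvd : M ∣ ch n (2 ^ a) (2 ^ b) * (2 ^ a * 2 ^ b) ^ (n / 2) * h)
    (hu : u * 2 ^ M.factorization 2 = (2 ^ a * 2 ^ b) ^ (n / 2) * 2 ^ h.factorization 2) :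
    M < 2 ^ (3 * M.factorization 2) := by
  have hh0 : 0 < h := Nat.pos_of_dvd_of_pos hh hTy0
  obtain ⟨Y, hY, hTY⟩ := tbd_list hTy
  have hY0 := yl_pos le_rfl hb hY
  have hhb : h ≤ b * 2 ^ b := (Nat.le_of_dvd hY0 (hh.trans hTY)).trans (yl_le (by norm_num) hY)
  refine red Nat.prime_two hn hh0.ne' hM0.ne' hdvd hu ?_
  rw [ch_eq hn] at hu1
  set E := (a + b) * (n / 2) with hE
  have hpa : 2 ≤ 2 ^ a := Nat.le_self_pow (by omega) 2
  have hpb : 2 ≤ 2 ^ b := Nat.le_self_pow (by omega) 2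
  have h2 : chN n (2 ^ a) (2 ^ b) ≤ 4 * 2 ^ E := by
    refine (chN_le hn hpa hpb).trans ?_
    rw [← pow_add, ← pow_mul]
  have h3 : 2 ^ u ≤ 2 ^ (3 * (E + 2)) := by
    calc 2 ^ u ≤ 2 ^ u * (1 + 2 ^ a) ^ 3 := Nat.le_mul_of_pos_right _ (by positivity)
      _ ≤ _ := hu1
      _ ≤ (4 * 2 ^ E) ^ 3 := Nat.pow_le_pow_left h2 3
      _ = 2 ^ (3 * (E + 2)) := by
        rw [show (4 : ℕ) = 2 ^ 2 from rfl, ← pow_add, ← pow_mul]; congr 1; ring
  have h4 : u ≤ 3 * (E + 2) := (Nat.pow_le_pow_iff_right (by norm_num)).1 h3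
  have hn2 : n / 2 * 2 = n := by rcases hn with rfl | rfl | rfl <;> rfl
  have h5 := large_ineq hn ha hb
  rw [← hE] at h5
  calc chN n (2 ^ a) (2 ^ b) * (h / 2 ^ h.factorization 2) * u ^ 2
      ≤ (4 * 2 ^ E) * (b * 2 ^ b) * (3 * (E + 2)) ^ 2 :=
        Nat.mul_le_mul (Nat.mul_le_mul h2 ((Nat.div_le_self _ _).trans hhb)) (Nat.pow_le_pow_left h4 2)
    _ = 2 ^ E * (36 * (b * 2 ^ b) * (E + 2) ^ 2) := by ring
    _ < 2 ^ E * 2 ^ E := Nat.mul_lt_mul_of_pos_left h5 (by positivity)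
    _ = (2 ^ a * 2 ^ b) ^ n := by
      rw [← pow_add, ← pow_add, ← pow_mul, hE]; congr 1
      conv_rhs => rw [← hn2]
      ring

/-! ### `a = 1`, `p ≥ 7` -/

theorem sq_le_two_pow (p : ℕ) (hp : 4 ≤ p) : p ^ 2 ≤ 2 ^ p := by
  induction p, hp using Nat.le_induction with
  | base => norm_num
  | succ p hp ih =>
    have h1 : (p + 1) ^ 2 ≤ 2 * p ^ 2 := by nlinarith
    calc (p + 1) ^ 2 ≤ 2 * p ^ 2 := h1
      _ ≤ 2 * 2 ^ p := Nat.mul_le_mul_left _ ih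
      _ = 2 ^ (p + 1) := by ring

theorem exp_one {p : ℕ} (hp : 7 ≤ p) : 64 * p ^ 12 < 2 ^ (p ^ 2) := by
  calc 64 * p ^ 12 = 64 * (p ^ 2) ^ 6 := by ring
    _ ≤ 64 * (2 ^ p) ^ 6 := Nat.mul_le_mul_left _ (Nat.pow_le_pow_left (sq_le_two_pow p (by omega)) 6)
    _ = 2 ^ (6 + p * 6) := by rw [pow_add, pow_mul]; norm_num
    _ < 2 ^ (p ^ 2) := Nat.pow_lt_pow_right (by norm_num) (by nlinarith)

theorem exp_two {p : ℕ} (hp : 7 ≤ p) : 1728 * p ^ 36 < 2 ^ (p ^ 3) := by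
  calc 1728 * p ^ 36 = 1728 * (p ^ 2) ^ 18 := by ring
    _ ≤ 1728 * (2 ^ p) ^ 18 := Nat.mul_le_mul_left _ (Nat.pow_le_pow_left (sq_le_two_pow p (by omega)) 18)
    _ ≤ 2 ^ 11 * (2 ^ p) ^ 18 := Nat.mul_le_mul_right _ (by norm_num)
    _ = 2 ^ (11 + p * 18) := by rw [pow_add, pow_mul]
    _ < 2 ^ (p ^ 3) := Nat.pow_lt_pow_right (by norm_num) (by
      have : 49 * p ≤ p ^ 3 := by
        have h1 : 49 ≤ p ^ 2 := by nlinarith
        calc 49 * p ≤ p ^ 2 * p := Nat.mul_le_mul_right _ h1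
          _ = p ^ 3 := by ring
      omega)

theorem poly_le {y b Y : ℕ} (hb : b = 1 ∨ b = 2 ∨ b = 3) (hY : Y ∈ yl (y + 1) b) :
    (b = 1 → Y ≤ y) ∧ (b = 2 → Y ≤ 2 * (y ^ 2 + 2 * y)) ∧ (b = 3 → Y ≤ 3 * (y + 1) ^ 3) := by
  refine ⟨?_, ?_, ?_⟩
  · rintro rfl
    have : Y = (y + 1) ^ 1 - 1 := by simpa [yl] using hY
    rw [this, pow_one]; omega
  · rintro rfl
    have : Y = ((y + 1) ^ 2 - 1) * 2 := by simpa [yl] using hY
    rw [this]
    have e : (y + 1) ^ 2 = y ^ 2 + 2 * y + 1 := by ring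
    rw [e]
    omega
  · rintro rfl
    exact yl_le (by omega) hY

theorem mers_key {n y b u h : ℕ} (hy : 6 ≤ y) (hn : n = 4 ∨ n = 6) (hb : b = 1 ∨ b = 2 ∨ (n = 6 ∧ b = 3))
    {Y : ℕ} (hY : Y ∈ yl (y + 1) b) (hh : h ≤ y * Y) (hu4 : n = 4 → u ≤ y + 1) (hu6 : n = 6 → u ≤ (y + 1) ^ 2) :
    chN n ((y + 1) ^ 1) ((y + 1) ^ b) * h * u ^ 2 < ((y + 1) ^ 1 * (y + 1) ^ b) ^ n := by
  obtain ⟨z, rfl⟩ : ∃ z, y = z + 6 := ⟨y - 6, by omega⟩
  have h0 := poly_le (by omega : b = 1 ∨ b = 2 ∨ b = 3) hY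
  rcases hn with rfl | rfl
  · have hu' : u ^ 2 ≤ (z + 6 + 1) ^ 2 := Nat.pow_le_pow_left (hu4 rfl) 2
    rcases hb with rfl | rfl | ⟨h1, -⟩
    · have hY' := h0.1 rfl
      have hh' : h ≤ (z + 6) * (z + 6) := hh.trans (Nat.mul_le_mul_left _ hY')
      refine lt_of_le_of_lt (Nat.mul_le_mul (Nat.mul_le_mul_left _ hh') hu') ?_
      simp only [chN, if_true]
      zify
      rw [← sub_pos]
      ring_nf
      positivity
    · have hY' := h0.2.1 rfl
      have hh' : h ≤ (z + 6) * (2 * ((z + 6) ^ 2 + 2 * (z + 6))) := hh.trans (Nat.mul_le_mul_left _ hY')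
      refine lt_of_le_of_lt (Nat.mul_le_mul (Nat.mul_le_mul_left _ hh') hu') ?_
      simp only [chN, if_true]
      zify
      rw [← sub_pos]
      ring_nf
      positivity
    · exact absurd h1 (by norm_num)
  · have hu' : u ^ 2 ≤ ((z + 6 + 1) ^ 2) ^ 2 := Nat.pow_le_pow_left (hu6 rfl) 2
    rcases hb with rfl | rfl | ⟨-, rfl⟩
    · have hY' := h0.1 rfl
      have hh' : h ≤ (z + 6) * (z + 6) := hh.trans (Nat.mul_le_mul_left _ hY')
      refine lt_of_le_of_lt (Nat.mul_le_mul (Nat.mul_le_mul_left _ hh') hu') ?_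
      simp only [chN, show (6 : ℕ) ≠ 4 by norm_num, if_false, if_true]
      zify
      rw [← sub_pos]
      ring_nf
      positivity
    · have hY' := h0.2.1 rfl
      have hh' : h ≤ (z + 6) * (2 * ((z + 6) ^ 2 + 2 * (z + 6))) := hh.trans (Nat.mul_le_mul_left _ hY')
      refine lt_of_le_of_lt (Nat.mul_le_mul (Nat.mul_le_mul_left _ hh') hu') ?_
      simp only [chN, show (6 : ℕ) ≠ 4 by norm_num, if_false, if_true]
      zify
      rw [← sub_pos]
      ring_nf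
      positivity
    · have hY' := h0.2.2 rfl
      have hh' : h ≤ (z + 6) * (3 * (z + 6 + 1) ^ 3) := hh.trans (Nat.mul_le_mul_left _ hY')
      refine lt_of_le_of_lt (Nat.mul_le_mul (Nat.mul_le_mul_left _ hh') hu') ?_
      simp only [chN, show (6 : ℕ) ≠ 4 by norm_num, if_false, if_true]
      zify
      rw [← sub_pos]
      ring_nf
      positivity

theorem mers_case {n p b h Tx Ty M u : ℕ} (hp : p.Prime) (hp7 : 7 ≤ p) (hn : n = 4 ∨ n = 6) (hb : 1 ≤ b)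
    (h4 : n = 4 → p ^ b ≤ (p ^ 1) ^ 2) (h6 : n = 6 → p ^ b ≤ (p ^ 1) ^ 3)
    (hTx : Tx ∣ p - 1) (hTy : TBd p b Ty) (hh : h ∣ Tx * Ty) (hTx0 : 0 < Tx) (hTy0 : 0 < Ty) (hM0 : 0 < M)
    (hu2 : 2 ^ u * (1 + p ^ b) ^ 3 ≤ ch n (p ^ 1) (p ^ b) ^ 3)
    (hdvd : M ∣ ch n (p ^ 1) (p ^ b) * (p ^ 1 * p ^ b) ^ (n / 2) * h)
    (hu : u * p ^ M.factorization p = (p ^ 1 * p ^ b) ^ (n / 2) * p ^ h.factorization p) :
    M < p ^ (3 * M.factorization p) := by
  obtain ⟨y, rfl⟩ : ∃ y, p = y + 1 := ⟨p - 1, by omega⟩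
  rw [Nat.add_sub_cancel] at hTx
  have hy0 : 0 < y := by omega
  have hn' : n = 4 ∨ n = 6 ∨ n = 8 := by omega
  obtain ⟨Y, hY, hTY⟩ := tbd_list hTy
  have hY0 := yl_pos hp.two_le hb hY
  have hh0 : 0 < h := Nat.pos_of_dvd_of_pos hh (Nat.mul_pos hTx0 hTy0)
  have hhY : h ≤ y * Y := Nat.le_of_dvd (Nat.mul_pos hy0 hY0) (hh.trans (Nat.mul_dvd_mul hTx hTY))
  have hb3 : b = 1 ∨ b = 2 ∨ (n = 6 ∧ b = 3) := by
    rcases hn with rfl | rfl
    · have := h4 rfl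
      rw [← pow_mul] at this
      have := (Nat.pow_le_pow_iff_right hp.one_lt).1 this
      omega
    · have := h6 rfl
      rw [← pow_mul] at this
      have := (Nat.pow_le_pow_iff_right hp.one_lt).1 this
      omega
  obtain ⟨c, rfl⟩ := u_pow hp hu
  refine red hp hn' hh0.ne' hM0.ne' hdvd hu ?_
  rw [ch_eq hn'] at hu2
  refine mers_key (by omega) hn hb3 hY ((Nat.div_le_self _ _).trans hhY) ?_ ?_
  · rintro rfl
    by_contra hc
    have hc2 : 2 ≤ c := by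
      by_contra h1
      apply hc
      calc (y + 1) ^ c ≤ (y + 1) ^ 1 := Nat.pow_le_pow_right (by omega) (by omega)
        _ = y + 1 := pow_one _
    have h1 : 2 ^ ((y + 1) ^ 2) ≤ 2 ^ ((y + 1) ^ c) :=
      Nat.pow_le_pow_right (by norm_num) (Nat.pow_le_pow_right (by omega) hc2)
    have h2 : 2 ^ ((y + 1) ^ c) ≤ ((1 + (y + 1)) * (1 + (y + 1) ^ (b + 1))) ^ 3 := by
      have h3 : chN 4 ((y + 1) ^ 1) ((y + 1) ^ b) ^ 3 =
          ((1 + (y + 1)) * (1 + (y + 1) ^ (b + 1))) ^ 3 * (1 + (y + 1) ^ b) ^ 3 := by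
        simp only [chN, if_true]
        ring
      rw [h3] at hu2
      exact le_of_mul_le_mul_right hu2 (by positivity)
    have h4' : (1 + (y + 1)) * (1 + (y + 1) ^ (b + 1)) ≤ 4 * (y + 1) ^ 4 := by
      have e1 : 1 + (y + 1) ≤ 2 * (y + 1) := by omega
      have e2 : 1 + (y + 1) ^ (b + 1) ≤ 2 * (y + 1) ^ 3 := by
        have : (y + 1) ^ (b + 1) ≤ (y + 1) ^ 3 := Nat.pow_le_pow_right (by omega) (by omega)
        have : 1 ≤ (y + 1) ^ 3 := Nat.one_le_pow _ _ (by omega)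
        omega
      calc _ ≤ (2 * (y + 1)) * (2 * (y + 1) ^ 3) := Nat.mul_le_mul e1 e2
        _ = 4 * (y + 1) ^ 4 := by ring
    have h5 : ((1 + (y + 1)) * (1 + (y + 1) ^ (b + 1))) ^ 3 ≤ 64 * (y + 1) ^ 12 := by
      calc _ ≤ (4 * (y + 1) ^ 4) ^ 3 := Nat.pow_le_pow_left h4' 3
        _ = 64 * (y + 1) ^ 12 := by ring
    have h6' := exp_one hp7
    omega
  · rintro rfl
    by_contra hc
    have hc3 : 3 ≤ c := by
      by_contra h1
      apply hc
      exact Nat.pow_le_pow_right (by omega) (by omega)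
    have h1 : 2 ^ ((y + 1) ^ 3) ≤ 2 ^ ((y + 1) ^ c) :=
      Nat.pow_le_pow_right (by norm_num) (Nat.pow_le_pow_right (by omega) hc3)
    have h2 : 2 ^ ((y + 1) ^ c) ≤ chN 6 ((y + 1) ^ 1) ((y + 1) ^ b) ^ 3 :=
      (Nat.le_mul_of_pos_right _ (by positivity)).trans hu2
    have h3 : chN 6 ((y + 1) ^ 1) ((y + 1) ^ b) ≤ 4 * (y + 1) ^ 12 := by
      refine (chN_le (Or.inr (Or.inl rfl)) ?_ ?_).trans ?_
      · rw [pow_one]; omega
      · exact (show 2 ≤ y + 1 by omega).trans (Nat.le_self_pow (by omega) _)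
      · rw [← pow_add, ← pow_mul]
        exact Nat.mul_le_mul_left _ (Nat.pow_le_pow_right (by omega) (by
          show (1 + b) * 3 ≤ 12
          omega))
    have h5 : chN 6 ((y + 1) ^ 1) ((y + 1) ^ b) ^ 3 ≤ 1728 * (y + 1) ^ 36 := by
      calc _ ≤ (4 * (y + 1) ^ 12) ^ 3 := Nat.pow_le_pow_left h3 3
        _ = 64 * (y + 1) ^ 36 := by ring
        _ ≤ 1728 * (y + 1) ^ 36 := Nat.mul_le_mul_right _ (by norm_num)
    have h6' := exp_two hp7
    omega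

/-! ### parity -/

theorem even_of_sq {p m g : ℕ} (hp : p.Prime) (h : p ^ m = g ^ 2) : m % 2 = 0 := by
  have h1 := congrArg (fun x : ℕ => x.factorization p) h
  simp only [Nat.factorization_pow, Finsupp.smul_apply, smul_eq_mul, hp.factorization_self, mul_one] at h1
  omega

theorem two_of_sq {p m g : ℕ} (hp : p.Prime) (h : 2 * p ^ m = g ^ 2) : p = 2 ∧ m % 2 = 1 := by
  by_cases hp2 : p = 2
  · subst hp2
    refine ⟨rfl, ?_⟩
    rw [← pow_succ'] at h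
    have := even_of_sq hp h
    omega
  · exfalso
    have h1 : (2 * p ^ m).factorization 2 = (g ^ 2).factorization 2 := by rw [h]
    have h2 : (p ^ m).factorization 2 = 0 := by
      refine Nat.factorization_eq_zero_of_not_dvd fun h3 => ?_
      have := (Nat.prime_dvd_prime_iff_eq Nat.prime_two hp).1 (Nat.prime_two.dvd_of_dvd_pow h3)
      exact hp2 this.symm
    rw [Nat.factorization_mul (by norm_num : (2 : ℕ) ≠ 0) (pow_ne_zero m hp.ne_zero), Finsupp.add_apply,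
      h2, Nat.factorization_pow, Finsupp.smul_apply, smul_eq_mul, Nat.prime_two.factorization_self] at h1
    omega

theorem three_ne (d : ℕ) : 2 + 1 ≠ 2 ^ d := by
  rcases d with _ | _ | d
  · norm_num
  · norm_num
  · rw [pow_succ]
    omega

/-- **E-NUM** -/
theorem st_numE : StNumE := by
  intro n p a b h Tx Ty M u hn hp ha hb h48 h6 h4 h6g h8g hSx hSy hh hTx0 hTy0 hM0 hu1 hu2 hdvd hu
  have hTy : TBd p b Ty := by
    rcases hSy with h | h
    · exact tbd_of_spec h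
    · exact h.2
  have h6e : n = 6 → (a + b) % 2 = 0 := by
    intro h
    obtain ⟨g, hg⟩ := h6g h
    rw [← pow_add] at hg
    exact even_of_sq hp hg
  have h8e : n = 8 → p = 2 ∧ (a + b) % 2 = 1 := by
    intro h
    obtain ⟨g, hg⟩ := h8g h
    rw [mul_assoc, ← pow_add] at hg
    exact two_of_sq hp hg
  rcases hSx with ⟨rfl, hpr, rfl⟩ | ⟨rfl, rfl, hTx⟩ | ⟨rfl, ⟨d, hd⟩, hTx⟩ | ⟨rfl, rfl, hTx⟩
  · rcases Nat.lt_or_ge a 9 with ha9 | ha9
    · have hfin : ∀ {a' : ℕ}, a' = a → (a', 1) ∈ [(1, 1), (2, 1), (3, 6), (4, 1), (8, 1)] →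
          Concl n 2 a b h M := by
        rintro a' rfl hmem
        exact fin_case hp (by norm_num) chk_two hmem one_pos (by omega) hn ha hb h48 h6 h4 h6e h8e dvd_rfl hTy hh
          hTx0 hTy0 hM0 hu1 hu2 hdvd hu
      interval_cases a
      · exact hfin rfl (by decide)
      · exact hfin rfl (by decide)
      · exact absurd hpr (by norm_num)
      · exact hfin rfl (by decide)
      · exact absurd hpr (by norm_num)
      · exact absurd hpr (by norm_num)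
      · exact absurd hpr (by norm_num)
      · exact hfin rfl (by decide)
    · left
      rw [one_mul] at hh
      exact large_case hn ha9 hb hTy hh hTy0 hM0 hu1 hdvd hu
  · exact fin_case hp (by norm_num) chk_two (X := 6) (by decide) (by norm_num) (by norm_num) hn ha hb h48 h6 h4 h6e h8e
      hTx hTy hh hTx0 hTy0 hM0 hu1 hu2 hdvd hu
  · have hp2 : p ≠ 2 := by
      rintro rfl
      exact three_ne d hd
    by_cases hp3 : p = 3
    · subst hp3
      exact fin_case hp (by norm_num) chk_three (X := 2) (by decide) (by norm_num) (by norm_num) hn ha hb h48 h6 h4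
        h6e h8e hTx hTy hh hTx0 hTy0 hM0 hu1 hu2 hdvd hu
    · have hp7 : 7 ≤ p := by
        have h2 := hp.two_le
        by_contra hlt
        have h5 : p = 4 ∨ p = 5 ∨ p = 6 := by omega
        rcases h5 with rfl | rfl | rfl
        · exact absurd hp (by norm_num)
        · have : (2 : ℕ) ^ d = 6 := hd.symm
          rcases d with _ | _ | _ | d
          · norm_num at this
          · norm_num at this
          · norm_num at this
          · rw [pow_succ, pow_succ, pow_succ] at this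
            omega
        · exact absurd hp (by norm_num)
      have hn46 : n = 4 ∨ n = 6 := by
        rcases hn with h | h | h
        · exact Or.inl h
        · exact Or.inr h
        · exact absurd (h8e h).1 hp2
      left
      exact mers_case hp hp7 hn46 hb (fun h => (h48 (Or.inl h)).2) (fun h => (h6 h).2) hTx hTy hh hTx0 hTy0 hM0
        hu2 hdvd hu
  · exact fin_case hp (by norm_num) chk_three (X := 2) (by decide) (by norm_num) (by norm_num) hn ha hb h48 h6 h4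
      h6e h8e hTx hTy hh hTx0 hTy0 hM0 hu1 hu2 hdvd hu

end Cfsg.Agent.H63.NumE
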